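import Mathlib
import Cfsg.Agent.S4397
import Cfsg.Agent.TECH.Crit4

/-!
Bicyclic 2-groups: two of the three maximal subgroups of a non-metacyclic product of two cyclic
2-groups are metacyclic, the third one is not generated by two elements.
-/

set_option autoImplicit false

namespace CL.Bic

open Subgroup Cfsg CL.R2 CL.Reg
open scoped commutatorElement

universe u

variable {G : Type u} [Group G]

/-- generated by two elements -/
def Gen2 (H : Subgroup G) : Prop := ∃ a b : G, closure ({a, b} : Set G) = H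

theorem Gen2.map {G' : Type*} [Group G'] {H : Subgroup G} (h : Gen2 H) (f : G →* G') : Gen2 (H.map f) := by
  obtain ⟨a, b, rfl⟩ := h
  exact ⟨f a, f b, by rw [MonoidHom.map_closure, Set.image_pair]⟩

theorem Gen2.of_map {G' : Type*} [Group G'] {H : Subgroup G} {f : G →* G'} (hf : Function.Injective f)
    (h : Gen2 (H.map f)) : Gen2 H := by
  obtain ⟨a, b, e⟩ := h
  obtain ⟨a', -, rfl⟩ : a ∈ H.map f := e ▸ left_mem_pair a b
  obtain ⟨b', -, rfl⟩ : b ∈ H.map f := e ▸ right_mem_pair _ b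
  exact ⟨a', b', map_injective hf (by rw [MonoidHom.map_closure, Set.image_pair, e])⟩

theorem four_cases {U : Subgroup G} {a b : G} (hU : ∀ m ∈ closure ({a, b} : Set G), m * m ∈ U)
    (hUl : U ≤ closure ({a, b} : Set G)) {m : G} (hm : m ∈ closure ({a, b} : Set G)) :
    m ∈ U ∨ m * a ∈ U ∨ m * b ∈ U ∨ m * a * b ∈ U := by
  set A := closure ({a, b} : Set G) with hA
  have := SecR.normal_of_sq hU
  let π : A →* A ⧸ U.subgroupOf A := QuotientGroup.mk' _
  have hπ : ∀ x : A, π x = 1 ↔ (x : G) ∈ U := fun x => QuotientGroup.eq_one_iff x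
  have hsq : ∀ q : A ⧸ U.subgroupOf A, q * q = 1 := fun q => by
    obtain ⟨x, rfl⟩ := QuotientGroup.mk'_surjective _ q
    exact (map_mul π x x).symm.trans ((hπ _).2 (hU _ x.2))
  have hinv : ∀ q : A ⧸ U.subgroupOf A, q⁻¹ = q := fun q => inv_eq_of_mul_eq_one_right (hsq q)
  have hcm : ∀ q r : A ⧸ U.subgroupOf A, q * r = r * q := fun q r => by
    rw [← hinv (q * r), mul_inv_rev, hinv, hinv]
  have ha : a ∈ A := left_mem_pair a b
  have hb : b ∈ A := right_mem_pair a b
  set α := π ⟨a, ha⟩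
  set β := π ⟨b, hb⟩
  have key : ∀ x (hx : x ∈ A), π ⟨x, hx⟩ = 1 ∨ π ⟨x, hx⟩ = α ∨ π ⟨x, hx⟩ = β ∨ π ⟨x, hx⟩ = α * β := by
    intro x hx
    induction hx using closure_induction with
    | mem x hx => rcases hx with rfl | rfl <;> simp [α, β]
    | one => left; exact map_one π
    | mul x y hx hy ihx ihy =>
      have e : π ⟨x * y, mul_mem hx hy⟩ = π ⟨x, hx⟩ * π ⟨y, hy⟩ := map_mul π ⟨x, hx⟩ ⟨y, hy⟩
      have e1 : α * (α * β) = β := by rw [← mul_assoc, hsq, one_mul]
      have e2 : β * (α * β) = α := by rw [hcm α β, ← mul_assoc, hsq, one_mul]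
      have e3 : α * β * α = β := by rw [hcm, e1]
      have e4 : α * β * β = α := by rw [hcm, e2]
      rw [e]
      rcases ihx with h | h | h | h <;> rcases ihy with h' | h' | h' | h' <;>
        simp only [h, h', one_mul, mul_one, hsq, e1, e2, e3, e4, hcm β α, true_or, or_true]
    | inv x hx ih =>
      have e : π ⟨x⁻¹, inv_mem hx⟩ = π ⟨x, hx⟩ := (map_inv π ⟨x, hx⟩).trans (hinv _)
      rwa [e]
  rcases key m hm with h | h | h | h
  · exact Or.inl ((hπ _).1 h)
  · exact Or.inr (Or.inl ((hπ (⟨m, hm⟩ * ⟨a, ha⟩)).1 (by rw [map_mul, h, hsq])))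
  · exact Or.inr (Or.inr (Or.inl ((hπ (⟨m, hm⟩ * ⟨b, hb⟩)).1 (by rw [map_mul, h, hsq]))))
  · exact Or.inr (Or.inr (Or.inr ((hπ (⟨m, hm⟩ * ⟨a, ha⟩ * ⟨b, hb⟩)).1 (by
      rw [map_mul, map_mul, h, mul_assoc, hsq]))))

theorem Gen2.relIndex_le {A B : Subgroup G} (h : Gen2 A) (hB : B ≤ A) (hU : ∀ m ∈ A, m * m ∈ B) :
    B.relIndex A ≤ 2 ^ 2 := by
  classical
  obtain ⟨a, b, rfl⟩ := h
  set A := closure ({a, b} : Set G)
  have ha : a ∈ A := left_mem_pair a b
  have hb : b ∈ A := right_mem_pair a b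
  let s : Finset (A ⧸ B.subgroupOf A) :=
    {QuotientGroup.mk (1 : A), QuotientGroup.mk (⟨a, ha⟩ : A), QuotientGroup.mk (⟨b, hb⟩ : A),
      QuotientGroup.mk (⟨a * b, mul_mem ha hb⟩ : A)}
  have hs : ∀ q, q ∈ s := fun q => by
    obtain ⟨x, rfl⟩ := QuotientGroup.mk_surjective q
    simp only [s, Finset.mem_insert, Finset.mem_singleton, QuotientGroup.eq, mem_subgroupOf]
    simpa [mul_assoc] using four_cases hU hB (inv_mem x.2)
  have : Fintype (A ⧸ B.subgroupOf A) := ⟨s, hs⟩
  calc B.relIndex A = Nat.card (A ⧸ B.subgroupOf A) := rfl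
    _ = s.card := by rw [Nat.card_eq_fintype_card, ← Finset.card_univ]; congr 1; ext q; simp [hs]
    _ ≤ 2 ^ 2 := Finset.card_le_four

variable [Finite G]

omit [Finite G] in
theorem mem_of_zpow_odd (hG : IsPGroup 2 G) {H : Subgroup G} {x : G} {i : ℤ} (hi : Odd i) (h : x ^ i ∈ H) :
    x ∈ H := by
  obtain ⟨n, hn⟩ := IsPGroup.iff_orderOf.1 hG x
  exact zpowers_le.2 h (PCyc.mem_zpowers_zpow_of_not_dvd Nat.prime_two hn (by
    rw [Nat.cast_ofNat, ← even_iff_two_dvd]; exact Int.not_even_iff_odd.2 hi))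

omit [Finite G] in
theorem sq_mem_center (hc : _root_.commutator G ≤ center G) (he : ∀ x ∈ _root_.commutator G, x ^ 2 = 1) (g : G) :
    g ^ 2 ∈ center G := by
  rw [mem_center_iff]
  intro t
  have h1 : ⁅g, t⁆ ∈ _root_.commutator G := commutator_mem_commutator (mem_top _) (mem_top _)
  rw [eq_comm, ← commutatorElement_eq_one_iff_mul_comm,
    PG.commutator_pow_left (mem_center_iff.1 (hc h1) g), he _ h1]

omit [Finite G] in
theorem base_B (hG : IsPGroup 2 G) (hc : _root_.commutator G ≤ center G)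
    (he : ∀ x ∈ _root_.commutator G, x ^ 2 = 1) {x y : G} (hxy : closure ({x, y} : Set G) = ⊤)
    (h : ⁅x, y⁆ ∈ powerClosure 2 1 (closure ({x, y ^ 2} : Set G))) : IsMetacyclic G := by
  have hsq := sq_mem_center hc he
  have hcm : ∀ g t : G, Commute (g ^ 2) t := fun g t => (mem_center_iff.1 (hsq g) t).symm
  have h4 : ∀ u v : G, (u * v) ^ 4 = u ^ 4 * v ^ 4 := fun u v => by
    have h1 : ⁅v, u⁆ ∈ _root_.commutator G := commutator_mem_commutator (mem_top _) (mem_top _)
    exact PG.mul_pow_four (mem_center_iff.1 (hc h1) u) (mem_center_iff.1 (hc h1) v) (he _ h1)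
  set c := ⁅x, y⁆
  have hcc : c ∈ _root_.commutator G := commutator_mem_commutator (mem_top _) (mem_top _)
  have : (zpowers c).Normal := normal_of_le_center (zpowers_le.2 (hc hcc))
  have hD : _root_.commutator G ≤ zpowers c := by
    have := commutator_pair_le_of_normal (N := zpowers c) (mem_zpowers c)
    rwa [hxy] at this
  have fin : ∀ k : G, (closure ({k, y} : Set G) = ⊤ ∨ closure ({k, x} : Set G) = ⊤) → c ∈ zpowers k →
      IsMetacyclic G := fun k hk hck => hk.elim
    (metacyclic_of_pair (normal_of_commutator_le (hD.trans (zpowers_le.2 hck))))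
    (metacyclic_of_pair (normal_of_commutator_le (hD.trans (zpowers_le.2 hck))))
  have g1 : ∀ i j : ℤ, Odd i → closure ({x ^ i * y ^ j, y} : Set G) = ⊤ := fun i j hi => by
    rw [eq_top_iff, ← hxy]
    refine pair_le (mem_of_zpow_odd hG hi ?_) (right_mem_pair _ _)
    simpa using mul_mem (left_mem_pair (x ^ i * y ^ j) y) (inv_mem (zpow_mem (right_mem_pair _ y) j))
  have g2 : ∀ i j : ℤ, Odd j → closure ({x ^ i * y ^ j, x} : Set G) = ⊤ := fun i j hj => by
    rw [eq_top_iff, ← hxy]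
    refine pair_le (right_mem_pair _ _) (mem_of_zpow_odd hG hj ?_)
    simpa using mul_mem (inv_mem (zpow_mem (right_mem_pair _ x) i)) (left_mem_pair (x ^ i * y ^ j) x)
  have g3 : ∀ (n : ℕ) (i j : ℤ), i.natAbs + j.natAbs = n → ∃ k : G,
      (closure ({k, y} : Set G) = ⊤ ∨ closure ({k, x} : Set G) = ⊤) ∧ (x ^ i) ^ 4 * (y ^ j) ^ 4 ∈ zpowers k := by
    intro n
    induction n using Nat.strong_induction_on with
    | _ n ih =>
    intro i j hn
    rcases Int.even_or_odd i with ⟨i', rfl⟩ | hi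
    · rcases Int.even_or_odd j with ⟨j', rfl⟩ | hj
      · by_cases h0 : n = 0
        · have : i' = 0 := by omega
          have : j' = 0 := by omega
          subst i' j'
          exact ⟨x, Or.inl hxy, by simp⟩
        · obtain ⟨k, hk, hk'⟩ := ih _ (by omega) i' j' rfl
          refine ⟨k, hk, ?_⟩
          have c1 : Commute ((x ^ i') ^ 4) ((y ^ j') ^ 4) := by
            rw [show (x ^ i') ^ 4 = ((x ^ i') ^ 2) ^ 2 by rw [← pow_mul]]; exact hcm _ _
          have := pow_mem hk' 2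
          rw [c1.mul_pow] at this
          convert this using 2 <;> rw [zpow_add, ← sq, ← pow_mul, ← pow_mul]
      · exact ⟨_, Or.inr (g2 _ j hj), by rw [← h4]; exact pow_mem (mem_zpowers _) 4⟩
    · exact ⟨_, Or.inl (g1 i j hi), by rw [← h4]; exact pow_mem (mem_zpowers _) 4⟩
  -- the shape of `c`
  have hy2 : ∀ g : G, Commute (y ^ 2) g := hcm y
  have hM : ∀ m ∈ closure ({x, y ^ 2} : Set G), ∃ i j : ℤ, m = x ^ i * (y ^ 2) ^ j := by
    intro m hm
    induction hm using closure_induction with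
    | mem m hm => rcases hm with rfl | rfl
                  · exact ⟨1, 0, by simp⟩
                  · exact ⟨0, 1, by simp⟩
    | one => exact ⟨0, 0, by simp⟩
    | mul a b _ _ iha ihb =>
      obtain ⟨i, j, rfl⟩ := iha
      obtain ⟨i', j', rfl⟩ := ihb
      refine ⟨i + i', j + j', ?_⟩
      rw [zpow_add, zpow_add, mul_assoc, mul_assoc, ← mul_assoc _ (x ^ i'), ((hy2 _).zpow_left j).eq, mul_assoc]
    | inv a _ ih =>
      obtain ⟨i, j, rfl⟩ := ih
      exact ⟨-i, -j, by rw [mul_inv_rev, ← zpow_neg, ← zpow_neg, ((hy2 _).zpow_left _).eq]⟩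
  have hc' : ∃ i j : ℤ, c = (x ^ i * (y ^ 2) ^ j) ^ 2 := by
    have hA : ∀ g ∈ powerClosure 2 1 (closure ({x, y ^ 2} : Set G)), ∃ i j : ℤ, g = (x ^ i * (y ^ 2) ^ j) ^ 2 := by
      intro g hg
      have cm : ∀ i j i' j' : ℤ, Commute (x ^ i * (y ^ 2) ^ j) (x ^ i' * (y ^ 2) ^ j') := fun i j i' j' =>
        ((Commute.zpow_zpow_self x i i').mul_right ((hy2 _).zpow_left j').symm).mul_left ((hy2 _).zpow_left j)
      induction hg using closure_induction with
      | mem g hg =>
        obtain ⟨m, hm, rfl⟩ := hg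
        obtain ⟨i, j, rfl⟩ := hM m hm
        exact ⟨i, j, by simp⟩
      | one => exact ⟨0, 0, by simp⟩
      | mul a b _ _ iha ihb =>
        obtain ⟨i, j, rfl⟩ := iha
        obtain ⟨i', j', rfl⟩ := ihb
        refine ⟨i + i', j + j', ?_⟩
        rw [← (cm i j i' j').mul_pow, zpow_add, zpow_add, mul_assoc, mul_assoc, ← mul_assoc _ (x ^ i'),
          ((hy2 _).zpow_left j).eq, mul_assoc]
      | inv a _ ih =>
        obtain ⟨i, j, rfl⟩ := ih
        exact ⟨-i, -j, by rw [← inv_pow, mul_inv_rev, ← zpow_neg, ← zpow_neg, ((hy2 _).zpow_left _).eq]⟩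
    exact hA _ h
  obtain ⟨i, j, e⟩ := hc'
  rcases Int.even_or_odd i with ⟨i', rfl⟩ | hi
  · obtain ⟨k, hk, hk'⟩ := g3 _ i' j rfl
    refine fin k hk ?_
    rw [e, ((hy2 _).zpow_left j).symm.mul_pow]
    convert hk' using 2
    · rw [zpow_add, ← sq, ← pow_mul]
    · rw [← zpow_natCast y 2, ← zpow_mul, mul_comm, zpow_mul, zpow_natCast, ← pow_mul]
  · refine fin (x ^ i * y ^ (2 * j)) (Or.inl (g1 _ _ hi)) ?_
    rw [e, zpow_mul, show y ^ (2 : ℤ) = y ^ 2 from zpow_natCast y 2]
    exact pow_mem (mem_zpowers _) 2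

/-- auxiliary property -/
def QB (G : Type u) [Group G] : Prop :=
  ∃ x y : G, closure ({x, y} : Set G) = ⊤ ∧ ⁅x, y⁆ ∈ powerClosure 2 1 (closure ({x, y ^ 2} : Set G))

/-- A two-generator 2-group acting trivially on the Frattini quotient of a maximal subgroup is metacyclic. -/
theorem metacyclic_of_comm_mem (hG : IsPGroup 2 G) {x y : G} (hxy : closure ({x, y} : Set G) = ⊤)
    (h : ⁅x, y⁆ ∈ powerClosure 2 1 (closure ({x, y ^ 2} : Set G))) : IsMetacyclic G := by
  have hQ : QB G := ⟨x, y, hxy, h⟩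
  refine Cfsg.Agent.S4397.reduce_aux (p := 2) QB ?_ ?_ _ G rfl hG hQ
  · rintro G _ _ U _ ⟨x, y, hxy, h⟩
    have h1 : (closure ({x, y} : Set G)).map (QuotientGroup.mk' U) = (⊤ : Subgroup G).map (QuotientGroup.mk' U) := by
      rw [hxy]
    rw [map_top_of_surjective _ (QuotientGroup.mk'_surjective U), MonoidHom.map_closure, Set.image_pair] at h1
    have h2 := mem_map_of_mem (QuotientGroup.mk' U) h
    rw [map_commutatorElement, map_powerClosure, MonoidHom.map_closure, Set.image_pair, map_pow] at h2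
    exact ⟨_, _, h1, h2⟩
  · rintro G _ _ hG ⟨x, y, hxy, h⟩ hc he
    exact base_B hG hc he hxy h

theorem exists_index_two (hG : IsPGroup 2 G) {A : Subgroup G} (hA : A ≠ ⊤) : ∃ M : Subgroup G, A ≤ M ∧ M.index = 2 := by
  obtain ⟨M, hM, hAM⟩ := (eq_top_or_exists_le_coatom A).resolve_left hA
  exact ⟨M, hAM, PG.coatom_index hG hM⟩

/-- Blackburn: a 2-group is metacyclic if it and all its maximal subgroups are generated by two elements. -/
theorem metacyclic_of_gen2 (hG : IsPGroup 2 G) (h : Gen2 (⊤ : Subgroup G))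
    (hM : ∀ M : Subgroup G, M.index = 2 → Gen2 M) : IsMetacyclic G := by
  refine Cfsg.Agent.S4397.reduce_aux (p := 2) (fun (G : Type u) [Group G] => Gen2 (⊤ : Subgroup G) ∧
    ∀ M : Subgroup G, M.index = 2 → Gen2 M) ?_ ?_ _ G rfl hG ⟨h, hM⟩
  · rintro G _ _ U _ ⟨h, hM⟩
    refine ⟨by simpa [map_top_of_surjective _ (QuotientGroup.mk'_surjective U)] using h.map (QuotientGroup.mk' U),
      fun M hM2 => ?_⟩
    have := (hM (M.comap (QuotientGroup.mk' U)) (by
      rw [index_comap_of_surjective _ (QuotientGroup.mk'_surjective U), hM2])).map (QuotientGroup.mk' U)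
    rwa [map_comap_eq_self_of_surjective (QuotientGroup.mk'_surjective U)] at this
  · rintro G _ _ hG ⟨h, hM⟩ hc he
    refine Cfsg.Agent.S4397.result hG (SecR.sectional_top fun A B hBA hA => ?_)
    by_cases hA' : A = ⊤
    · subst hA'; exact h.relIndex_le hBA hA
    obtain ⟨M, hAM, hM2⟩ := exists_index_two hG hA'
    have hsq := sq_mem_center hc he
    set N := powerClosure 2 1 (⊤ : Subgroup G)
    have hNc : N ≤ center G := powerClosure_le_iff.2 fun g _ => by simpa using hsq g
    have hNM : N ≤ M := powerClosure_le_iff.2 fun g _ => by simpa using M.sq_mem_of_index_two hM2 g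
    have hN4 : N.index ≤ 2 ^ 2 := by
      simpa using h.relIndex_le (B := N) le_top fun m _ => by
        simpa [sq] using pow_mem_powerClosure (p := 2) (mem_top m) 1
    have hrel := relIndex_mul_index hNM
    have h0 : N.index ≠ 0 := index_ne_zero_of_finite
    have hcomm : ∀ u ∈ M, ∀ v ∈ M, u * v = v * u := by
      intro u hu v hv
      by_cases hu' : u ∈ N
      · exact (mem_center_iff.1 (hNc hu') v).symm
      by_cases hv' : v ∈ N
      · exact mem_center_iff.1 (hNc hv') u
      have h2 : N.relIndex M = 2 := by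
        have : N.relIndex M ≠ 1 := fun e => hu' (relIndex_eq_one.1 e hu)
        have : N.relIndex M ≠ 0 := fun e => h0 (by rw [← hrel, e, zero_mul])
        rw [hM2] at hrel; omega
      have := (mul_mem_iff_of_index_two h2 (a := ⟨u, hu⟩) (b := ⟨v, hv⟩)).2
        (by simp [mem_subgroupOf, hu', hv'])
      have := mem_center_iff.1 (hNc this) u
      exact mul_left_cancel (a := u) (by rw [← mul_assoc u v u]; exact this)
    obtain ⟨a, b, hab⟩ := (show Gen2 (⊤ : Subgroup M) from Gen2.of_map M.subtype_injective (by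
      rw [← MonoidHom.range_eq_map, range_subtype]; exact hM M hM2))
    have hmM : IsMetacyclic M := metacyclic_of_pair (x := a) ⟨fun n hn g => by
      rw [show g * n = n * g from Subtype.ext (hcomm _ g.2 _ n.2)]; simpa using hn⟩ hab
    have hmA : IsMetacyclic A := MC.metacyclic_of_injective hmM _ (inclusion_injective hAM)
    have := SecR.normal_of_sq hA
    have := MC.card_dvd_sq (MC.metacyclic_quotient hmA (B.subgroupOf A)) ⊤ (m := 2) fun q _ => by
      obtain ⟨x, rfl⟩ := QuotientGroup.mk_surjective q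
      rw [← QuotientGroup.mk_pow, QuotientGroup.eq_one_iff, mem_subgroupOf, coe_pow, sq]
      exact hA _ x.2
    rw [card_top] at this
    exact Nat.le_of_dvd (by norm_num) this

/-- `H` is the product of the cyclic groups generated by `x` and `y`. -/
structure BicOn (H : Subgroup G) (x y : G) : Prop where
  l : x ∈ H
  r : y ∈ H
  eq : ∀ g ∈ H, ∃ i j : ℤ, g = x ^ i * y ^ j

omit [Finite G] in
theorem BicOn.symm {H : Subgroup G} {x y : G} (h : BicOn H x y) : BicOn H y x :=
  ⟨h.r, h.l, fun g hg => by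
    obtain ⟨i, j, e⟩ := h.eq _ (inv_mem hg)
    exact ⟨-j, -i, by rw [← inv_inv g, e, mul_inv_rev, zpow_neg, zpow_neg]⟩⟩

omit [Finite G] in
theorem BicOn.closure_eq {H : Subgroup G} {x y : G} (h : BicOn H x y) : closure ({x, y} : Set G) = H :=
  le_antisymm (pair_le h.l h.r) fun g hg => by
    obtain ⟨i, j, rfl⟩ := h.eq g hg
    exact mul_mem (zpow_mem (left_mem_pair x y) i) (zpow_mem (right_mem_pair x y) j)

omit [Finite G] in
theorem BicOn.gen2 {H : Subgroup G} {x y : G} (h : BicOn H x y) : Gen2 H := ⟨x, y, h.closure_eq⟩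

omit [Finite G] in
theorem BicOn.step {H M : Subgroup G} {x y : G} (h : BicOn H x y) (hM : M ≤ H) (h2 : M.relIndex H = 2)
    (hx : x ∈ M) : BicOn M x (y ^ 2) := by
  have hy2 : y ^ 2 ∈ M := sq_mem_of_index_two h2 ⟨y, h.r⟩
  have hy : y ∉ M := fun hy => by
    have : H ≤ M := h.closure_eq ▸ pair_le hx hy
    rw [relIndex_eq_one.2 this] at h2; omega
  refine ⟨hx, hy2, fun g hg => ?_⟩
  obtain ⟨i, j, rfl⟩ := h.eq g (hM hg)
  rcases Int.even_or_odd' j with ⟨k, rfl | rfl⟩
  · exact ⟨i, k, by rw [zpow_mul, show y ^ (2 : ℤ) = y ^ 2 from zpow_natCast y 2]⟩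
  · refine absurd ?_ hy
    rw [mul_mem_cancel_left (zpow_mem hx i), zpow_add, zpow_mul, show y ^ (2 : ℤ) = y ^ 2 from zpow_natCast y 2,
      mul_mem_cancel_left (zpow_mem hy2 k), zpow_one] at hg
    exact hg

/-- In a non-metacyclic bicyclic 2-group the maximal subgroup containing a factor is metacyclic. -/
theorem BicOn.metacyclic_max (hG : IsPGroup 2 G) {x y : G} (h : BicOn ⊤ x y) (hn : ¬ IsMetacyclic G)
    {M : Subgroup G} (hM : M.index = 2) (hx : x ∈ M) : IsMetacyclic M := by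
  have hb : BicOn M x (y ^ 2) := h.step le_top (by simpa using hM) hx
  have : M.Normal := normal_of_index_eq_two hM
  have hc : ⁅x, y⁆ ∉ powerClosure 2 1 M := fun e => hn (metacyclic_of_comm_mem hG h.closure_eq (by
    rwa [hb.closure_eq]))
  refine metacyclic_of_gen2 (hG.to_subgroup M) (Gen2.of_map M.subtype_injective (by
    rw [← MonoidHom.range_eq_map, range_subtype]; exact hb.gen2))
    fun N hN => Gen2.of_map M.subtype_injective ?_
  have hN' : (N.map M.subtype).relIndex M = 2 := by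
    rw [relIndex, subgroupOf, comap_map_eq_self_of_injective M.subtype_injective, hN]
  have hNM : N.map M.subtype ≤ M := map_subtype_le N
  generalize N.map M.subtype = N' at hN' hNM
  by_cases h1 : x ∈ N'
  · exact (hb.step hNM hN' h1).gen2
  by_cases h2 : y ^ 2 ∈ N'
  · exact (hb.symm.step hNM hN' h2).gen2
  by_cases h3 : y⁻¹ * x * y ∈ N'
  · have e : M.map (MulAut.conj y).toMonoidHom = M := by
      ext g
      refine ⟨?_, fun hg => ⟨y⁻¹ * g * y, by simpa using Normal.conj_mem ‹M.Normal› g hg y⁻¹, by simp [mul_assoc]⟩⟩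
      rintro ⟨m, hm, rfl⟩
      exact Normal.conj_mem ‹M.Normal› m hm y
    have h4 : (N'.map (MulAut.conj y).toMonoidHom).relIndex M = 2 := by
      conv_lhs => rw [← e]
      rw [relIndex_map_map_of_injective _ _ (MulAut.conj y).injective, hN']
    have h5 : N'.map (MulAut.conj y).toMonoidHom ≤ M := e ▸ map_mono hNM
    exact Gen2.of_map (MulAut.conj y).injective (hb.step h5 h4 ⟨_, h3, by simp [mul_assoc]⟩).gen2
  exfalso
  have := powerClosure_normal (p := 2) M 1
  set U := powerClosure 2 1 M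
  have hU : ∀ m ∈ M, m * m ∈ U := fun m hm => by simpa [sq] using pow_mem_powerClosure (p := 2) hm 1
  have hUN : U ≤ N' := powerClosure_le_iff.2 fun m hm => by
    rw [pow_one]; exact sq_mem_of_index_two hN' ⟨m, hm⟩
  have hx' : y⁻¹ * x * y ∈ M := by simpa using Normal.conj_mem ‹M.Normal› x hx y⁻¹
  have hd : y⁻¹ * x * y * x⁻¹ ∈ N' := (mul_mem_iff_of_index_two hN' (a := ⟨_, hx'⟩) (b := ⟨x⁻¹, inv_mem hx⟩)).2
    (by simp [mem_subgroupOf, h1, h3])
  have hdU : y⁻¹ * x * y * x⁻¹ ∈ U := by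
    rcases four_cases (U := U) (a := x) (b := y ^ 2) (by rwa [hb.closure_eq])
      (by rw [hb.closure_eq]; exact powerClosure_le M 1) (m := y⁻¹ * x * y * x⁻¹)
      (by rw [hb.closure_eq]; exact hNM hd) with e | e | e | e
    · exact e
    · exact absurd ((mul_mem_cancel_left hd).1 (hUN e)) h1
    · exact absurd ((mul_mem_cancel_left hd).1 (hUN e)) h2
    · have e1 : x * y ^ 2 ∈ U := by
        have := Normal.conj_mem ‹U.Normal› _ e y
        convert this using 1; simp only [sq]; group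
      rw [mul_assoc _ x] at e
      exact (mul_mem_cancel_right e1).1 e
  apply hc
  have := Normal.conj_mem ‹U.Normal› _ hdU y
  convert this using 1; rw [commutatorElement_def]; group

omit [Finite G] in
theorem zpow_mem_iff {M : Subgroup G} (hM : M.index = 2) {x : G} (hx : x ∉ M) (i : ℤ) : x ^ i ∈ M ↔ Even i := by
  have h2 : x ^ (2 : ℤ) ∈ M := by simpa using M.sq_mem_of_index_two hM x
  rcases Int.even_or_odd' i with ⟨k, rfl | rfl⟩
  · simpa [zpow_mul] using zpow_mem h2 k
  · rw [zpow_add, zpow_mul, mul_mem_cancel_left (zpow_mem h2 k)]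
    simp [hx]

/-- The third maximal subgroup. -/
theorem BicOn.exists_third (hG : IsPGroup 2 G) {x y : G} (h : BicOn ⊤ x y) (hn : ¬ IsMetacyclic G) :
    ∃ T : Subgroup G, T.index = 2 ∧ T.Characteristic ∧ ¬ Gen2 T ∧ x ∉ T ∧ y ∉ T ∧
      ∀ M : Subgroup G, M.index = 2 → M ≠ T → IsMetacyclic M := by
  have h1 : ∀ M : Subgroup G, M.index = 2 → ¬ Gen2 M → x ∉ M ∧ y ∉ M := fun M hM hg =>
    ⟨fun e => hg (h.step le_top (by simpa using hM) e).gen2,
      fun e => hg (h.symm.step le_top (by simpa using hM) e).gen2⟩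
  have h2 : ∀ M T : Subgroup G, M.index = 2 → T.index = 2 → x ∉ M → y ∉ M → x ∉ T → y ∉ T → M = T := by
    intro M T hM hT a b c d
    ext g
    obtain ⟨i, j, rfl⟩ := h.eq g (mem_top g)
    rw [mul_mem_iff_of_index_two hM, mul_mem_iff_of_index_two hT, zpow_mem_iff hM a, zpow_mem_iff hM b,
      zpow_mem_iff hT c, zpow_mem_iff hT d]
  obtain ⟨T, hT, hg⟩ : ∃ T : Subgroup G, T.index = 2 ∧ ¬ Gen2 T := by
    by_contra hh
    push Not at hh
    exact hn (metacyclic_of_gen2 hG h.gen2 hh)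
  refine ⟨T, hT, characteristic_iff_map_eq.2 fun α => ?_, hg, (h1 T hT hg).1, (h1 T hT hg).2, fun M hM hne => ?_⟩
  · have a : (T.map α.toMonoidHom).index = 2 := (index_map_equiv T α).trans hT
    have b : ¬ Gen2 (T.map α.toMonoidHom) := fun e => hg (e.of_map α.injective)
    exact h2 _ _ a hT (h1 _ a b).1 (h1 _ a b).2 (h1 T hT hg).1 (h1 T hT hg).2
  · by_cases a : x ∈ M
    · exact h.metacyclic_max hG hn hM a
    by_cases b : y ∈ M
    · exact h.symm.metacyclic_max hG hn hM b
    exact absurd (h2 _ _ hM hT a b (h1 T hT hg).1 (h1 T hT hg).2) hne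

end CL.Bic
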