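import Mathlib
import Cfsg.Agent.INV.Bic.Grp
import Cfsg.Agent.FUS.MetaResist
import Cfsg.Agent.FUS.Hyperfocal
import Cfsg.Agent.FUS.GroupNormal

/-!
Fusion systems on bicyclic 2-groups: metacyclic centric radical subgroups.
-/

set_option autoImplicit false

namespace CL.Bic

open Subgroup Cfsg Cfsg.FusionSystem CL.Fus
open scoped commutatorElement

variable {Ω : Type*} [Group Ω] {S : Subgroup Ω} {F : FusionSystem S} [Finite S]

theorem metacyclic_of_isDQS {G : Type*} [Group G] {n : ℕ} {a b : G} (h : PCyc.IsDQS G n a b) : IsMetacyclic G :=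
  R2.metacyclic_of_pair h.normal h.closure_eq_top

/-- A proper metacyclic centric radical subgroup is homocyclic, moved by every element normalizing it. -/
theorem homo_of_metacyclic (hS : IsPGroup 2 S) (hd : ¬ IsMetacyclic S) {R : Subgroup Ω} (hc : F.IsCentric R)
    (hr : F.IsRadical 2 R) (hne : R ≠ S) (hm : IsMetacyclic R) : ∃ k, MC.Homo 2 (k + 1) R ∧
      ∀ x ∈ S, x ∈ normalizer (R : Set Ω) → x ∉ R → ∃ w ∈ R, w ^ 2 = 1 ∧ cj x w ≠ w := by
  have hR : R ≤ S := hc.1
  have := finite_of_le hR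
  have hcc := centralizerIn_le_of_isCentric hc
  have hQp : IsPGroup 2 R := isPGroup_of_le hS hR
  have step : ∀ (β₀ : MulAut R) (A : Subgroup Ω), (∀ β : MulAut R, (orderOf β).Coprime 2 →
      (∀ y : R, y.1 ∈ A → β y = y) → β = 1) → StabStep 2 (F.autGroup R) β₀ A R :=
    fun β₀ A h => Or.inr fun α hα hco hfix y hy _ => by
      rw [h α hco fun z hz => Subtype.ext (by rw [← autFun_coe, hfix _ z.2 hz]), autFun_one hy]
  obtain ⟨x0, hx0, hn0, hx0R⟩ := exists_mem_normalizer_not_mem hS (lt_of_le_of_ne hR hne) le_rfl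
  have hflag : ¬ MC.Flag 2 R := fun h => hx0R (mem_of_chain hS hcc hr hx0 hn0 le_rfl (.single (step _ ⊥ fun β hβ _ =>
    PowOrComm.eq_one_of_flag hQp h (powOrComm_two (mem_top β)) hβ)))
  have hsc := fun h => (exists_isDQS_of_selfCent hS hR hcc h).elim fun n h => h.elim fun a h =>
    h.elim fun b h => hd (metacyclic_of_isDQS h)
  rcases MC.cases hQp hm with h | ⟨k, h⟩ | ⟨-, n, a, b, h⟩
  · exact absurd h hflag
  · rcases k with _ | k
    · exact (hsc (Or.inl ⟨h.card_zero rfl, hne⟩)).elim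
    refine ⟨k, h, fun x hx hn hxR => ?_⟩
    have := h.comm
    let W : Subgroup Ω :=
      { carrier := {y | y ∈ R ∧ y ^ 2 = 1}
        one_mem' := ⟨one_mem _, one_pow _⟩
        mul_mem' := fun {a b} ha hb => ⟨mul_mem ha.1 hb.1, by
          rw [Commute.mul_pow (setLike_mul_comm (s := R) ha.1 hb.1), ha.2, hb.2, one_mul]⟩
        inv_mem' := fun ha => ⟨inv_mem ha.1, by rw [inv_pow, ha.2, inv_one]⟩ }
    by_contra hW
    push Not at hW
    refine hxR (mem_of_chain hS hcc hr hx hn le_rfl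
      ((Relation.ReflTransGen.single (stabStep_bot_of_fix (A := W) (fun α hα y hy hyW =>
        ⟨autFun_mem _ hy, by
          rw [← autFun_pow_apply _ hy, hyW.2, (autFun_eq_one_iff _ (one_mem _)).2 rfl]⟩) fun y hy hyW => by
          rw [autFun_cjAut hn hy, hW y hy hyW.2])).tail (step _ W fun β hβ hf => h.eq_one_of_fix hβ fun g hg =>
            hf g ⟨g.2, congrArg Subtype.val hg⟩)))
  · rcases h.two_le.eq_or_lt with e | e
    · exact (hsc (Or.inr ⟨by rw [h.card_eq, ← e], h.not_isMulCommutative⟩)).elim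
    · exact absurd (MC.flag_of_isDQS hm h e) hflag

theorem eq_of_le_metacyclic (hS : IsPGroup 2 S) (hd : ¬ IsMetacyclic S) {R M : Subgroup Ω} (hc : F.IsCentric R)
    (hr : F.IsRadical 2 R) (hRM : R ≤ M) (hM : M ≤ S) (hm : IsMetacyclic M) : R = M := by
  have hR : R ≤ S := hc.1
  have := finite_of_le hR
  have := finite_of_le hM
  by_contra hne
  have hne' : R ≠ S := fun e => hne (le_antisymm hRM (e ▸ hM))
  have hmR : IsMetacyclic R := MC.metacyclic_of_injective hm _ (inclusion_injective hRM)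
  obtain ⟨k, h, hmov⟩ := homo_of_metacyclic hS hd hc hr hne' hmR
  have := h.comm
  obtain ⟨x0, hx0, hn0, hx0R⟩ := exists_mem_normalizer_not_mem hS (lt_of_le_of_ne hRM hne) hM
  obtain ⟨j, hxR, hx2⟩ := exists_pow_not_mem_pow_mem hS (hM hx0) hx0R
  have hx := pow_mem hx0 (2 ^ j)
  have hn := pow_mem hn0 (2 ^ j)
  generalize x0 ^ 2 ^ j = x at hxR hx2 hx hn
  obtain ⟨w, hw, hw2, hw1⟩ := hmov x (hM hx) hn hxR
  obtain ⟨a, ha⟩ := h.exists_pow_eq hmR (w := ⟨w, hw⟩) (Subtype.ext hw2)
  have hH : R ⊔ zpowers x ≤ M := sup_le hRM (zpowers_le.2 hx)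
  have := finite_of_le hH
  refine MC.false_of_wreath (isPGroup_of_le hS (hH.trans hM))
    (MC.metacyclic_of_injective hm _ (inclusion_injective hH))
    (Q := R.subgroupOf _) inferInstance (((Nat.dvd_prime Nat.prime_two).1
      (MC.relIndex_sup_zpowers_dvd_of_pow_mem hn hx2)).resolve_left fun e =>
        hxR (relIndex_eq_one.1 e (mem_sup_right (mem_zpowers x))))
    (x := ⟨x, mem_sup_right (mem_zpowers x)⟩) (a := ⟨a, mem_sup_left a.2⟩) hxR a.2 (k := k)
    (fun q hq => Subtype.ext (congrArg (fun z : R => z.1) (h.exp ⟨q, hq⟩))) fun e => hw1 ?_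
  have e1 : (a.1 * cj x a.1⁻¹) ^ 2 ^ (k + 1) = 1 := by
    simpa [commutatorElement_def, cj_apply, mul_assoc] using congrArg Subtype.val e
  have e2 : a.1 ^ 2 ^ (k + 1) = w := congrArg Subtype.val ha
  rw [Commute.mul_pow (setLike_mul_comm (s := R) a.2 (cj_mem_of_mem_normalizer hn (inv_mem a.2))),
    cj_apply, conj_pow, inv_pow, e2, mul_eq_one_iff_eq_inv] at e1
  rw [cj_apply]
  conv_rhs => rw [e1]
  group

theorem prankLE_of_metacyclic {G : Type*} [Group G] (h : IsMetacyclic G) : PRankLE 2 2 G := fun A _ hA =>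
  Nat.le_of_dvd (by norm_num) (MC.card_dvd_sq h A hA)

theorem prankLE_of_index_two (hS : IsPGroup 2 S) (hd : ¬ IsMetacyclic S) {R : Subgroup Ω} (hc : F.IsCentric R)
    (hr : F.IsRadical 2 R) (hi : R.relIndex S = 2) (hm : IsMetacyclic R) : PRankLE 2 2 S := by
  have hR : R ≤ S := hc.1
  have := finite_of_le hR
  have hne : R ≠ S := fun e => by rw [e, relIndex_self] at hi; omega
  obtain ⟨k, h, hmov⟩ := homo_of_metacyclic hS hd hc hr hne hm
  have := h.comm
  have hN : (R.subgroupOf S).Normal := normal_of_index_eq_two hi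
  intro E hE hE2
  by_contra hlt
  let W : Subgroup S :=
    { carrier := {y | y.1 ∈ R ∧ y ^ 2 = 1}
      one_mem' := ⟨one_mem _, one_pow _⟩
      mul_mem' := fun {a b} ha hb => ⟨mul_mem ha.1 hb.1, by
        rw [Commute.mul_pow (Subtype.ext (setLike_mul_comm (s := R) ha.1 hb.1)), ha.2, hb.2, one_mul]⟩
      inv_mem' := fun ha => ⟨inv_mem ha.1, by rw [inv_pow, ha.2, inv_one]⟩ }
  have hWR : W ≤ R.subgroupOf S := fun y hy => hy.1
  have hW4 : Nat.card W ≤ 4 := by
    have hm' : IsMetacyclic (R.subgroupOf S) :=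
      MC.metacyclic_of_injective hm (subgroupOfEquivOfLe hR).toMonoidHom (subgroupOfEquivOfLe hR).injective
    have := MC.card_dvd_sq (MC.metacyclic_of_injective hm' _ (inclusion_injective hWR)) ⊤ (m := 2)
      fun y _ => Subtype.ext y.2.2
    rw [card_top] at this
    exact Nat.le_of_dvd (by norm_num) this
  have h1 : R.subgroupOf S ⊓ E ≤ W := fun y hy => ⟨hy.1, hE2 y hy.2⟩
  have h2 : (R.subgroupOf S).relIndex E ∣ 2 := hi ▸ relIndex_dvd_index_of_normal _ E
  have h3 : Nat.card (R.subgroupOf S ⊓ E : Subgroup S) * (R.subgroupOf S).relIndex E = Nat.card E := by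
    rw [← inf_relIndex_right, ← Nat.card_congr (subgroupOfEquivOfLe inf_le_right).toEquiv]
    exact card_mul_index _
  have h4 := card_le_of_le h1
  have h5 := Nat.le_of_dvd two_pos h2
  have h8 : 8 ≤ Nat.card E := by
    obtain ⟨n, hn⟩ := (hS.to_subgroup E).exists_card_eq
    rw [hn] at hlt ⊢
    have : 3 ≤ n := by
      by_contra hh
      exact hlt (Nat.pow_le_pow_right two_pos (by omega))
    exact Nat.pow_le_pow_right two_pos this
  have h6 : R.subgroupOf S ⊓ E = W := eq_of_le_of_card_ge h1 (by nlinarith)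
  have h7 : ¬ E ≤ R.subgroupOf S := fun e => by
    rw [relIndex_eq_one.2 e] at h3; omega
  obtain ⟨x, hxE, hxR⟩ := SetLike.not_le_iff_exists.1 h7
  obtain ⟨w, hw, hw2, hw1⟩ := hmov x x.2 ((normal_subgroupOf_iff_le_normalizer hR).1 hN x.2) hxR
  have hwE : (⟨w, hR hw⟩ : S) ∈ E := (h6.ge ⟨hw, Subtype.ext hw2⟩).2
  refine hw1 ?_
  have := congrArg Subtype.val (setLike_mul_comm (s := E) hxE hwE)
  rw [cj_apply, mul_inv_eq_iff_eq_mul]
  exact this

/-- If a bicyclic 2-group has rank at least three, the hyperfocal subgroup is proper. -/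
theorem hyperfocal_ne (hS : IsPGroup 2 S) (hF : F.IsSaturated 2) {x y : S} (hb : BicOn ⊤ x y)
    (hrk : ¬ PRankLE 2 2 S) : F.hyperfocalSubgroup 2 ≠ S := by
  have hd : ¬ IsMetacyclic S := fun h => hrk (prankLE_of_metacyclic h)
  obtain ⟨T, hT, hTc, -, hxT, -, hM⟩ := hb.exists_third hS hd
  have : F.hyperfocalSubgroup 2 ≤ T.map S.subtype := by
    refine hyperfocal_le_of_essential hS hF (le_normalizer_map_of_normal T) ?_
    rintro R (rfl | hR) α hα hco z hz
    · refine ⟨(⟨z, hz⟩ : R)⁻¹ * α ⟨z, hz⟩, ?_, by simp [autFun_of_mem α hz]⟩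
      refine (mul_mem_iff_of_index_two hT).2 ?_
      rw [inv_mem_iff]
      exact (SetLike.ext_iff.1 (characteristic_iff_comap_eq.1 hTc α) _).symm
    · by_cases hRT : R ≤ T.map S.subtype
      · exact hRT (mul_mem (inv_mem hz) (autFun_mem α hz))
      exfalso
      have hlt := lt_of_essential hS hF hR
      obtain ⟨M, hRM, hM2⟩ := exists_index_two hS (A := R.subgroupOf S) fun e =>
        hlt.ne (le_antisymm hlt.le (subgroupOf_eq_top.1 e))
      have hRM' : R ≤ M.map S.subtype := fun r hr => ⟨⟨r, hlt.le hr⟩, hRM hr, rfl⟩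
      have hm : IsMetacyclic (M.map S.subtype) := MC.metacyclic_of_surjective (hM M hM2 fun e => hRT (e ▸ hRM'))
        (M.equivMapOfInjective _ S.subtype_injective).toMonoidHom (MulEquiv.surjective _)
      have hr := isRadical_of_essential hS hF hR
      have e := eq_of_le_metacyclic hS hd hR.1 hr hRM' (map_subtype_le M) hm
      refine hrk (prankLE_of_index_two hS hd hR.1 hr ?_ (e ▸ hm))
      rw [e, relIndex, subgroupOf, comap_map_eq_self_of_injective S.subtype_injective, hM2]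
  intro e
  rw [e] at this
  exact hxT ((mem_map_iff_mem S.subtype_injective).1 (this x.2))

end CL.Bic
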